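import Cfsg.Agent.Lib.Recog.EPPOSimple.Arith
import Cfsg.Agent.Lib.KnownB.PSL2Elem
import Cfsg.Agent.Lib.ClassK.Simple360
import Cfsg.Agent.Lib.ClassK.SmallSimple
import Cfsg.Agent.Lib.Classical.PSLTwoPerm
import Cfsg.Agent.Lib.Suzuki.Tori
import Cfsg.Agent.Lib.Suzuki.Model
import Cfsg.Agent.Lib.StructC.PrimePowerOrders
import Cfsg.Agent.Lib.Recog.LThreeFourPlane.Model
import Mathlib.GroupTheory.SpecificGroups.Alternating.Simple

/-!
Which of the simple groups with 2-group involution centralisers have all orders prime powers.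
-/

set_option autoImplicit false
set_option linter.unusedSectionVars false
set_option linter.style.haveILetI false

universe u

namespace CfsgLib.Recog.EPPOSimple

open CfsgLib.StructC.PrimePowerOrders

/-- The three kinds of simple groups with 2-group involution centralisers, with the Suzuki groups as groups. -/
def CITClass (G : Type u) [Group G] : Prop :=
  (∃ (F : Type) (_ : Field F) (_ : Fintype F),
      (Fintype.card F = 9 ∨ (∃ n : ℕ, Fintype.card F = 2 ^ n) ∨
        ((Fintype.card F).Prime ∧ ∃ k : ℕ, Fintype.card F = 2 ^ k + 1 ∨ Fintype.card F + 1 = 2 ^ k)) ∧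
      Nonempty (G ≃* Matrix.ProjectiveSpecialLinearGroup (Fin 2) F)) ∨
  (∃ (F : Type) (_ : Field F) (_ : Fintype F), Fintype.card F = 4 ∧
      Nonempty (G ≃* Matrix.ProjectiveSpecialLinearGroup (Fin 3) F)) ∨
  Cfsg.Lie.IsoSuzuki G

/-- The simple groups with all orders prime powers. -/
def EPPOList (G : Type u) [Group G] : Prop :=
  Nonempty (G ≃* alternatingGroup (Fin 6)) ∨
  (∃ (F : Type) (_ : Field F) (_ : Fintype F), Fintype.card F ∈ ({4, 7, 8, 17} : Finset ℕ) ∧
    Nonempty (G ≃* Matrix.ProjectiveSpecialLinearGroup (Fin 2) F)) ∨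
  (∃ (F : Type) (_ : Field F) (_ : Fintype F), Fintype.card F = 4 ∧
    Nonempty (G ≃* Matrix.ProjectiveSpecialLinearGroup (Fin 3) F)) ∨
  (∃ (F : Type) (_ : Field F) (_ : Fintype F),
    (Fintype.card F = 8 ∧ Nonempty (G ≃* ↥(Cfsg.Lie.Sz F 4))) ∨
      (Fintype.card F = 32 ∧ Nonempty (G ≃* ↥(Cfsg.Lie.Sz F 8))))

variable {G : Type u} [Group G] [Finite G]

/-- Every involution centraliser is a 2-group. -/
theorem isPGroup_centralizer (h : PP G) (t : G) (ht : orderOf t = 2) :
    IsPGroup 2 (Subgroup.centralizer ({t} : Set G)) := by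
  refine IsPGroup.of_card (n := (Nat.card (Subgroup.centralizer ({t} : Set G))).primeFactorsList.length)
    (Nat.eq_prime_pow_of_unique_prime_dvd Nat.card_pos.ne' fun {d} hd hdd => ?_)
  by_contra hne
  haveI := Fact.mk hd
  obtain ⟨x, hx⟩ := exists_prime_orderOf_dvd_card' (G := Subgroup.centralizer ({t} : Set G)) d hdd
  rw [← Subgroup.orderOf_coe] at hx
  exact false_of_commute_prime h hd Nat.prime_two hne hx ht
    (Subgroup.mem_centralizer_singleton_iff.1 x.2)

theorem onePP_of_orderOf {H : Type*} [Group H] (h : PP G) (e : G ≃* H) {x : H} {n : ℕ}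
    (hx : orderOf x = n) : OnePP n := by
  by_cases h1 : e.symm x = 1
  · left
    rw [← hx, show x = 1 by simpa using congrArg e h1, orderOf_one]
  · right
    rw [← hx, ← e.symm.orderOf_eq x]
    exact h _ h1

theorem onePP_of_isCyclic {H : Type*} [Group H] [Finite H] (h : PP G) (e : G ≃* H) (A : Subgroup H)
    [IsCyclic A] : OnePP (Nat.card A) := by
  obtain ⟨g, hg⟩ := IsCyclic.exists_generator (α := A)
  exact onePP_of_orderOf h e (x := (g : H))
    (by rw [Subgroup.orderOf_coe, orderOf_eq_card_of_forall_mem_zpowers hg])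

variable [IsSimpleGroup G]

theorem not_card_six_or_twelve (hG : ¬ IsMulCommutative G) :
    Nat.card G ≠ 6 ∧ Nat.card G ≠ 12 := by
  have key : ∀ p : ℕ, p.Prime → p ∣ Nat.card G → 1 < Nat.card (Sylow p G) := by
    intro p hp hd
    haveI := Fact.mk hp
    exact (CfsgLib.Transfer.sylow_count_of_simple hG (p := p) hd).1
  constructor
  · intro h
    haveI := Fact.mk Nat.prime_three
    obtain ⟨h1, hm, hd, -⟩ := CfsgLib.Transfer.sylow_count_of_simple hG (p := 3) (by rw [h]; norm_num)
    rw [h] at hd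
    have := Nat.le_of_dvd (by norm_num) hd
    interval_cases Nat.card (Sylow 3 G) <;> omega
  · intro h
    haveI := Fact.mk Nat.prime_two
    obtain ⟨h1, hm, hd, hperm⟩ := CfsgLib.Transfer.sylow_count_of_simple hG (p := 2) (by rw [h]; norm_num)
    rw [h] at hd
    have := Nat.le_of_dvd (by norm_num) hd
    have h4 : Nat.card (Sylow 2 G) = 3 := by interval_cases Nat.card (Sylow 2 G) <;> omega
    rw [h4, h] at hperm
    norm_num [Nat.factorial] at hperm

theorem psl_two_case (hG : ¬ IsMulCommutative G) (h : PP G) {F : Type} [Field F] [Fintype F]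
    (hF : Fintype.card F = 9 ∨ (∃ n : ℕ, Fintype.card F = 2 ^ n) ∨
      ((Fintype.card F).Prime ∧ ∃ k : ℕ, Fintype.card F = 2 ^ k + 1 ∨ Fintype.card F + 1 = 2 ^ k))
    (e : G ≃* Matrix.ProjectiveSpecialLinearGroup (Fin 2) F) : EPPOList G := by
  have hcard : Nat.card G = Nat.card (Matrix.ProjectiveSpecialLinearGroup (Fin 2) F) :=
    Nat.card_congr e.toEquiv
  have h4 : 4 ≤ Fintype.card F := by
    by_contra hlt
    have h1 : 1 < Fintype.card F := Fintype.one_lt_card
    obtain ⟨h6, h12⟩ := not_card_six_or_twelve hG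
    rcases (show Fintype.card F = 2 ∨ Fintype.card F = 3 by omega) with hq | hq
    · exact h6 (hcard.trans (CfsgLib.Classical.card_psl_two_eq hq 6 (by decide)))
    · exact h12 (hcard.trans (CfsgLib.Classical.card_psl_two_eq hq 12 (by decide)))
  rcases hF with hq | ⟨n, hq⟩ | ⟨hp, k, hk⟩
  · haveI := alternatingGroup.isSimpleGroup (α := Fin 6) (by simp)
    refine Or.inl (CfsgLib.ClassK.nonempty_equiv_360 ?_ (by
      rw [nat_card_alternatingGroup, Nat.card_fin]; rfl))
    exact hcard.trans (CfsgLib.Classical.card_psl_two_eq hq 360 (by decide))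
  · have hn : 2 ≤ n := by
      by_contra hn
      have : 2 ^ n ≤ 2 ^ 1 := Nat.pow_le_pow_right (by norm_num) (by omega)
      omega
    haveI := Fact.mk Nat.prime_two
    haveI : CharP F 2 := charP_of_card_eq_prime_pow hq
    have hd : Nat.gcd 2 (Fintype.card F - 1) = 1 := by
      rw [hq]
      have h2 : 2 ∣ 2 ^ n := dvd_pow_self 2 (by omega)
      have h1le : 1 ≤ 2 ^ n := Nat.one_le_two_pow
      exact Nat.prime_two.coprime_iff_not_dvd.2 (by omega)
    obtain ⟨g, hg⟩ := CfsgLib.KnownB.SL2.exists_orderOf_psl (F := F) 2 (m := 2 ^ n - 1)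
      (Or.inr (Or.inl (by rw [hd, Nat.div_one, hq])))
    obtain ⟨g', hg'⟩ := CfsgLib.KnownB.SL2.exists_orderOf_psl (F := F) 2 (m := 2 ^ n + 1)
      (Or.inr (Or.inr (by rw [hd, Nat.div_one, hq])))
    refine Or.inr (Or.inl ⟨F, inferInstance, inferInstance, ?_, ⟨e⟩⟩)
    rcases two_pow_case hn (onePP_of_orderOf h e hg) (onePP_of_orderOf h e hg') with rfl | rfl <;>
      simp [hq]
  · haveI := Fact.mk hp
    haveI : CharP F (Fintype.card F) := charP_of_card_eq_prime (p := Fintype.card F) rfl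
    have h5 : 5 ≤ Fintype.card F := by
      rcases Nat.lt_or_ge (Fintype.card F) 5 with hlt | hge
      · have : Fintype.card F = 4 := by omega
        rw [this] at hp
        norm_num at hp
      · exact hge
    have hd : Nat.gcd 2 (Fintype.card F - 1) = 2 := by
      refine Nat.gcd_eq_left ?_
      have := hp.eq_two_or_odd
      omega
    obtain ⟨g, hg⟩ := CfsgLib.KnownB.SL2.exists_orderOf_psl (F := F) (Fintype.card F)
      (m := (Fintype.card F - 1) / 2) (Or.inr (Or.inl (by rw [hd])))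
    obtain ⟨g', hg'⟩ := CfsgLib.KnownB.SL2.exists_orderOf_psl (F := F) (Fintype.card F)
      (m := (Fintype.card F + 1) / 2) (Or.inr (Or.inr (by rw [hd])))
    rcases prime_case hp h5 hk (onePP_of_orderOf h e hg) (onePP_of_orderOf h e hg') with hq | hq | hq
    · letI : Fintype (GaloisField 2 2) := Fintype.ofFinite _
      haveI := Fact.mk Nat.prime_two
      have hF4 : Fintype.card (GaloisField 2 2) = 4 := by
        rw [← Nat.card_eq_fintype_card, GaloisField.card 2 2 (by norm_num)]; rfl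
      haveI := CfsgLib.ClassK.isSimpleGroup_psl_two (F := GaloisField 2 2) hF4.ge
      exact Or.inr (Or.inl ⟨GaloisField 2 2, inferInstance, inferInstance, by simp [hF4],
        CfsgLib.ClassK.nonempty_equiv_sixty
          (hcard.trans (CfsgLib.Classical.card_psl_two_eq hq 60 (by decide)))
          (CfsgLib.Classical.card_psl_two_eq hF4 60 (by decide))⟩)
    · exact Or.inr (Or.inl ⟨F, inferInstance, inferInstance, by simp [hq], ⟨e⟩⟩)
    · exact Or.inr (Or.inl ⟨F, inferInstance, inferInstance, by simp [hq], ⟨e⟩⟩)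

theorem suzuki_case (h : PP G) (hS : Cfsg.Lie.IsoSuzuki G) : EPPOList G := by
  obtain ⟨F, _, _, m, hm, hF, ⟨e⟩⟩ := hS
  haveI := Fact.mk Nat.prime_two
  haveI : CharP F 2 := charP_of_card_eq_prime_pow hF
  let e' : G ≃* Cfsg.Sz F m := e.trans (CfsgLib.Suzuki.szEquiv hm hF).symm
  obtain ⟨A, B, hA, hB, hprod, -, -, -, -⟩ := CfsgLib.Suzuki.exists_two_tori hm hF
  have hcyc : ∀ {A : Subgroup (Cfsg.Sz F m)}, CfsgLib.Suzuki.IsTorus A → OnePP (Nat.card A) := by
    rintro A ⟨x, hx, hp, rfl⟩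
    haveI := (CfsgLib.Suzuki.cyclic_and_index_le hF hx hp rfl).1
    exact onePP_of_isCyclic h e' _
  have h5 : 5 ∣ Fintype.card F ^ 2 + 1 := by
    rw [hF, ← pow_mul]
    have : 2 ^ ((2 * m + 1) * 2) % 5 = 4 := by
      rw [show (2 * m + 1) * 2 = 4 * m + 2 by ring, pow_add, pow_mul]
      simp [Nat.mul_mod, Nat.pow_mod]
    omega
  obtain ⟨C, hC, hC5⟩ : ∃ C, CfsgLib.Suzuki.IsTorus C ∧ 5 ∣ Nat.card C := by
    rcases (Nat.Prime.dvd_mul (by norm_num)).1 (hprod ▸ h5) with h' | h'
    · exact ⟨A, hA, h'⟩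
    · exact ⟨B, hB, h'⟩
  obtain ⟨k, hk⟩ := eq_pow_of_dvd (by norm_num) (hcyc hC) hC5
  have hm2 : m ≤ 2 := torus_five hm (k := k) (by
    rcases (hC.card_mem hm hF).1 with h' | h'
    · exact Or.inl (hk ▸ h')
    · exact Or.inr (hk ▸ h'))
  refine Or.inr (Or.inr (Or.inr ⟨F, inferInstance, inferInstance, ?_⟩))
  interval_cases m
  · exact Or.inl ⟨by simpa using hF, ⟨e⟩⟩
  · exact Or.inr ⟨by simpa using hF, ⟨e⟩⟩

theorem list_of_class (hG : ¬ IsMulCommutative G) (h : PP G) (hc : CITClass G) : EPPOList G := by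
  rcases hc with ⟨F, _, _, hF, ⟨e⟩⟩ | hc | hc
  · exact psl_two_case hG h hF e
  · exact Or.inr (Or.inr (Or.inl hc))
  · exact suzuki_case h hc

end CfsgLib.Recog.EPPOSimple
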