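import Cfsg.Agent.Lib.Recog.EPPOSimple.Arith
import Cfsg.Agent.Lib.StructC.PrimePowerOrders

/-!
In a group of prime power orders the index of a normal subgroup is controlled by the normaliser of
each of its Sylow subgroups of prime order.
-/

set_option autoImplicit false
set_option linter.unusedSectionVars false
set_option linter.style.haveILetI false

universe u

namespace CfsgLib.Recog.EPPOSimple

open CfsgLib.StructC CfsgLib.StructC.PrimePowerOrders

variable {X : Type u} [Group X] [Finite X]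

theorem index_lemma (h : PP X) (M : Subgroup X) [M.Normal] {q k : ℕ} [hqp : Fact q.Prime]
    (hM : Nat.card M = q * k) (hk : ¬ q ∣ k) :
    ∃ b m, M.index * (q * (k % q)) = q ^ b * m ∧ m ∣ q - 1 ∧ OnePP m ∧ k % q ∣ m := by
  classical
  have hq : q.Prime := hqp.out
  obtain ⟨P⟩ : Nonempty (Sylow q M) := inferInstance
  have hPq : Nat.card (P : Subgroup M) = q := by
    obtain ⟨j, hj⟩ := IsPGroup.iff_card.1 P.isPGroup'
    have hd : q ^ j ∣ q * k := hM ▸ hj ▸ Subgroup.card_subgroup_dvd_card _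
    rcases j with _ | _ | j
    · exact absurd (Subgroup.card_eq_one.1 (hj.trans (pow_zero q)))
        (P.ne_bot_of_dvd_card (hM ▸ dvd_mul_right q k))
    · rw [hj, pow_one]
    · refine absurd ?_ hk
      rw [pow_succ', pow_succ'] at hd
      exact (dvd_mul_right q _).trans ((Nat.mul_dvd_mul_iff_left hq.pos).1 hd)
  obtain ⟨Q, hQ⟩ : ∃ Q, Q = (P : Subgroup M).map M.subtype := ⟨_, rfl⟩
  have hQq : Nat.card Q = q := by
    rw [hQ, Subgroup.card_map_of_injective M.subtype_injective, hPq]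
  have hQp : IsPGroup q Q := hQ ▸ P.isPGroup'.map _
  have hQM : Q ≤ M := hQ ▸ Subgroup.map_subtype_le _
  haveI : IsCyclic Q := isCyclic_of_prime_card hQq
  obtain ⟨N, hN⟩ : ∃ N, N = Subgroup.normalizer (Q : Set X) := ⟨_, rfl⟩
  have hidx : M.relIndex N = M.index := by
    rw [← Subgroup.relIndex_sup_right, hN, hQ, P.normalizer_sup_eq_top, Subgroup.relIndex_top_right]
  let σ : N →* MulAut Q := CosetPrimePower.cj Q N hN.le
  let τ : (M.subgroupOf N) →* MulAut Q := σ.comp (M.subgroupOf N).subtype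
  obtain ⟨m, hm⟩ : ∃ m, m = Nat.card σ.range := ⟨_, rfl⟩
  obtain ⟨n, hn⟩ : ∃ n, n = Nat.card τ.range := ⟨_, rfl⟩
  have hnm : n ∣ m := by
    rw [hn, hm]
    refine Subgroup.card_dvd_of_le ?_
    rintro _ ⟨x, rfl⟩
    exact ⟨_, rfl⟩
  have hmq : m ∣ q - 1 := by
    rw [hm]
    refine (Subgroup.card_subgroup_dvd_card _).trans (dvd_of_eq ?_)
    rw [IsCyclic.card_mulAut, hQq, Nat.totient_prime hq]
  have hmpp : OnePP m := by
    haveI : Fact (Nat.card Q).Prime := ⟨hQq.symm ▸ hq⟩
    haveI : IsCyclic (MulAut Q) := isCyclic_of_surjective (IsCyclic.mulAutMulEquiv Q).symm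
      (IsCyclic.mulAutMulEquiv Q).symm.surjective
    obtain ⟨⟨g, x, rfl⟩, hg⟩ := IsCyclic.exists_generator (α := σ.range)
    have hord : m = orderOf (σ x) := by
      rw [hm, ← orderOf_eq_card_of_forall_mem_zpowers hg]
      exact (Subgroup.orderOf_coe _).symm
    have hd : m ∣ orderOf x := hord ▸ orderOf_map_dvd σ x
    by_cases hx : (x : X) = 1
    · left
      rw [hord, show x = 1 from Subtype.ext hx, map_one, orderOf_one]
    rw [← Subgroup.orderOf_coe] at hd
    obtain ⟨r, j, hr, -, hj⟩ := h _ hx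
    rw [← hj] at hd
    obtain ⟨i, -, rfl⟩ := (Nat.dvd_prime_pow (Nat.prime_iff.2 hr)).1 hd
    rcases Nat.eq_zero_or_pos i with rfl | hi
    · exact Or.inl (pow_zero r)
    · exact Or.inr ⟨r, i, hr, hi, rfl⟩
  have hker : IsPGroup q σ.ker := by
    rw [IsPGroup.iff_orderOf]
    intro y
    rw [← Subgroup.orderOf_coe, ← Subgroup.orderOf_coe]
    by_cases hy1 : ((y : N) : X) = 1
    · exact ⟨0, by rw [hy1, orderOf_one, pow_zero]⟩
    obtain ⟨r, j, hr, -, e⟩ := h _ hy1
    refine ⟨j, ?_⟩
    by_cases hrq : r = q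
    · rw [← e, hrq]
    exfalso
    obtain ⟨⟨z, hz⟩, hzo⟩ := exists_prime_orderOf_dvd_card' (G := Q) q (by rw [hQq])
    rw [Subgroup.orderOf_mk] at hzo
    refine false_of_commute h (Nat.prime_iff.2 hr) hq hrq e.symm (hzo.trans (pow_one q).symm) hy1
      (fun e' => hq.ne_one (by rw [← hzo, e', orderOf_one])) ?_
    exact (CosetPrimePower.cj_fixed_iff hN.le (y : N) ⟨z, hz⟩).1
      (by
        show σ (y : N) ⟨z, hz⟩ = ⟨z, hz⟩
        rw [show σ (y : N) = 1 from MonoidHom.mem_ker.1 y.2]; rfl)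
  -- inside `M`
  obtain ⟨L, hL⟩ : ∃ L, L = Subgroup.normalizer ((P : Subgroup M) : Set M) := ⟨_, rfl⟩
  have hLN : L = N.comap M.subtype := by
    ext x
    rw [hL, Subgroup.mem_comap, hN, Subgroup.mem_normalizer_iff, Subgroup.mem_normalizer_iff, hQ]
    constructor
    · intro hx z
      constructor
      · rintro ⟨w, hw, rfl⟩
        exact ⟨_, (hx w).1 hw, rfl⟩
      · rintro ⟨w, hw, e⟩
        refine ⟨x⁻¹ * w * x, ?_, ?_⟩
        · refine (hx _).2 ?_
          rw [show x * (x⁻¹ * w * x) * x⁻¹ = w by group]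
          exact hw
        · show (x : X)⁻¹ * (w : X) * (x : X) = z
          rw [show (w : X) = (x : X) * z * (x : X)⁻¹ from e]
          group
    · intro hx w
      have := hx (w : X)
      constructor
      · intro hw
        obtain ⟨v, hv, e⟩ := this.1 ⟨w, hw, rfl⟩
        rwa [show x * w * x⁻¹ = v from Subtype.ext e.symm]
      · intro hw
        obtain ⟨v, hv, e⟩ := this.2 ⟨_, hw, rfl⟩
        rwa [show w = v from Subtype.ext e.symm]
  have hLc : Nat.card L = Nat.card (M.subgroupOf N) := by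
    rw [hLN]
    exact Nat.card_congr
      { toFun := fun x => ⟨⟨(x : X), x.2⟩, Subgroup.mem_subgroupOf.2 x.1.2⟩
        invFun := fun x => ⟨⟨((x : N) : X), Subgroup.mem_subgroupOf.1 x.2⟩, (x : N).2⟩
        left_inv := fun x => rfl
        right_inv := fun x => rfl }
  have hτker : Nat.card τ.ker = q := by
    let f : τ.ker →* X := N.subtype.comp ((M.subgroupOf N).subtype.comp τ.ker.subtype)
    have hf : Function.Injective f := fun a b e =>
      Subtype.ext (Subtype.ext (Subtype.ext e))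
    have hfp : IsPGroup q τ.ker := by
      refine (hker.comap_of_injective (M.subgroupOf N).subtype Subtype.val_injective).to_le ?_
      exact fun y hy => hy
    obtain ⟨R, hR⟩ : ∃ R, R = f.range.comap M.subtype := ⟨_, rfl⟩
    have hRp : IsPGroup q R := hR ▸
      ((IsPGroup.of_equiv hfp (MonoidHom.ofInjective hf))).comap_of_injective _ M.subtype_injective
    have hPR : (P : Subgroup M) ≤ R := by
      intro w hw
      have hwQ : (w : X) ∈ Q := hQ ▸ Subgroup.mem_map_of_mem _ hw
      have hwN : (w : X) ∈ N := hN ▸ Subgroup.le_normalizer hwQ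
      rw [hR]
      refine Subgroup.mem_comap.2 ⟨⟨⟨⟨(w : X), hwN⟩, Subgroup.mem_subgroupOf.2 w.2⟩, ?_⟩, rfl⟩
      rw [MonoidHom.mem_ker]
      refine MulEquiv.ext fun v => Subtype.ext ?_
      show (w : X) * v * (w : X)⁻¹ = v
      have hc : IsMulCommutative Q := IsCyclic.isMulCommutative
      have := congrArg Subtype.val (hc.is_comm.comm (⟨_, hwQ⟩ : Q) v)
      simp only [Subgroup.coe_mul] at this
      rw [this, mul_inv_cancel_right]
    have hRP : R = (P : Subgroup M) := P.is_maximal' hRp hPR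
    rw [← hPq, ← hRP, hR, Nat.card_congr (MonoidHom.ofInjective hf).toEquiv]
    refine (Nat.card_congr (Equiv.mk (fun y => ⟨⟨((y : f.range) : X), ?_⟩, y.2⟩)
      (fun w => ⟨((w.1 : M) : X), w.2⟩) (fun y => rfl) (fun w => rfl)))
    obtain ⟨u, hu⟩ := y.2
    rw [← hu]
    exact Subgroup.mem_subgroupOf.1 u.1.2
  have hLqn : Nat.card L = q * n := by
    rw [hLc, hn, ← hτker, ← Subgroup.index_ker τ, Subgroup.card_mul_index]
  have hk' : k % q = n := by
    have h1 := Subgroup.card_mul_index L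
    rw [hLqn, hM, mul_assoc] at h1
    have h1' := Nat.eq_of_mul_eq_mul_left hq.pos h1
    have h2 : L.index % q = 1 := by
      have := card_sylow_modEq_one q M
      rw [P.card_eq_index_normalizer] at this
      have e : L.index ≡ 1 [MOD q] := by rw [hL]; exact this
      rw [e, Nat.mod_eq_of_lt hq.one_lt]
    have hnle : n ≤ q - 1 := Nat.le_of_dvd (by have := hq.two_le; omega) (hnm.trans hmq)
    rw [← h1', Nat.mul_mod, h2, mul_one, Nat.mod_mod, Nat.mod_eq_of_lt (by have := hq.two_le; omega)]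
  obtain ⟨b, hb⟩ := IsPGroup.iff_card.1 hker
  refine ⟨b, m, ?_, hmq, hmpp, hk'.symm ▸ hnm⟩
  have h3 := Subgroup.card_mul_index σ.ker
  rw [Subgroup.index_ker, ← hm, hb] at h3
  have h4 := Subgroup.card_mul_index (M.subgroupOf N)
  rw [← hLc, hLqn] at h4
  rw [hk', h3, ← h4, ← hidx, Subgroup.relIndex, mul_comm]

end CfsgLib.Recog.EPPOSimple
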