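import Mathlib

/-!
Arithmetic behind the simple groups whose elements all have prime power order.
-/

set_option autoImplicit false

namespace CfsgLib.Recog.EPPOSimple

/-- The number is `1` or a prime power. -/
def OnePP (n : ℕ) : Prop := n = 1 ∨ IsPrimePow n

theorem eq_pow_of_dvd {n p : ℕ} (hp : p.Prime) (h : OnePP n) (hd : p ∣ n) : ∃ k, n = p ^ k := by
  rcases h with rfl | h
  · exact absurd (Nat.dvd_one.1 hd) hp.ne_one
  · obtain ⟨r, k, hr, -, rfl⟩ := h
    rw [(Nat.prime_dvd_prime_iff_eq hp (Nat.prime_iff.2 hr)).1 (hp.dvd_of_dvd_pow hd)]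
    exact ⟨k, rfl⟩

theorem pow_two_mod_three (n : ℕ) : 2 ^ n % 3 = if Even n then 1 else 2 := by
  induction n with
  | zero => rfl
  | succ j ih =>
    rw [pow_succ, Nat.mul_mod, ih]
    by_cases hj : Even j <;> simp [hj, Nat.even_add_one]

theorem three_pow_mod_eight (k : ℕ) : 3 ^ k % 8 = if Even k then 1 else 3 := by
  induction k with
  | zero => rfl
  | succ j ih =>
    rw [pow_succ, Nat.mul_mod, ih]
    by_cases hj : Even j <;> simp [hj, Nat.even_add_one]

/-- `2^n - 1` is a power of three only for `n ≤ 2`. -/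
theorem pred_two_pow {n k : ℕ} (h : 2 ^ n - 1 = 3 ^ k) : n ≤ 2 := by
  by_contra hn
  obtain ⟨c, hc⟩ : 8 ∣ 2 ^ n := by
    rw [show (8 : ℕ) = 2 ^ 3 by norm_num]; exact Nat.pow_dvd_pow 2 (by omega)
  have h3 := three_pow_mod_eight k
  have h1 : 1 ≤ 2 ^ n := Nat.one_le_two_pow
  by_cases hk : Even k <;> simp [hk] at h3 <;> omega

/-- `2^n + 1` is a power of three only for `n ≤ 1` and `n = 3`. -/
theorem succ_two_pow {n k : ℕ} (h : 2 ^ n + 1 = 3 ^ k) : n ≤ 1 ∨ n = 3 := by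
  by_cases hn : n < 3
  · interval_cases n
    · exact Or.inl (by omega)
    · exact Or.inl le_rfl
    · exfalso
      have h3 := three_pow_mod_eight k
      by_cases hk : Even k <;> simp [hk] at h3 <;> omega
  obtain ⟨c, hc⟩ : 8 ∣ 2 ^ n := by
    rw [show (8 : ℕ) = 2 ^ 3 by norm_num]; exact Nat.pow_dvd_pow 2 (by omega)
  have h3 := three_pow_mod_eight k
  by_cases hk : Even k
  · obtain ⟨j, rfl⟩ := hk
    rw [pow_add] at h
    obtain ⟨t, ht⟩ : ∃ t, t = 3 ^ j := ⟨_, rfl⟩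
    rw [← ht] at h
    have ht1 : 1 ≤ t := ht ▸ Nat.one_le_pow _ _ (by norm_num)
    have hprod : (t - 1) * (t + 1) = 2 ^ n := by
      obtain ⟨s, rfl⟩ := Nat.exists_eq_add_of_le ht1
      rw [Nat.add_sub_cancel_left]
      nlinarith
    obtain ⟨a, -, ha⟩ := (Nat.dvd_prime_pow Nat.prime_two).1 (Dvd.intro (t + 1) hprod)
    obtain ⟨b, -, hb⟩ := (Nat.dvd_prime_pow Nat.prime_two).1 (Dvd.intro_left (t - 1) hprod)
    have hb2 : 2 ^ b = 2 ^ a + 2 := by omega
    have ha1 : a = 1 := by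
      rcases a with _ | _ | a
      · rcases b with _ | _ | b
        · simp at hb2
        · simp at hb2
        · rw [pow_succ, pow_succ] at hb2; omega
      · rfl
      · rcases b with _ | _ | b
        · simp at hb2
        · simp at hb2
        · simp only [pow_succ] at hb2; omega
    subst ha1
    have htt : t = 3 := by omega
    right
    have h8 : 2 ^ n = 2 ^ 3 := by rw [← hprod, htt]; norm_num
    exact Nat.pow_right_injective le_rfl h8
  · simp [hk] at h3
    omega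

/-- The exponent of five in `2^(m+1)·odd + 1`. -/
theorem five_pow_bound {m k : ℕ} (hm : 2 ≤ m) (h : 2 ^ (m + 1) ∣ 5 ^ k - 1) : 2 ^ (m - 1) ∣ k := by
  obtain ⟨n, rfl⟩ : ∃ n, m = n + 2 := ⟨m - 2, by omega⟩
  have h5 : ((5 : ZMod (2 ^ (n + 3)))) ^ k = 1 := by
    have h1 : (((5 ^ k : ℕ)) : ZMod (2 ^ (n + 3))) = ((1 : ℕ) : ZMod (2 ^ (n + 3))) := by
      rw [ZMod.natCast_eq_natCast_iff', Nat.ModEq.eq_1 .. |>.symm]
      exact ((Nat.modEq_iff_dvd' (Nat.one_le_pow _ _ (by norm_num))).2 h).symm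
    push_cast at h1
    exact h1
  have := orderOf_dvd_of_pow_eq_one h5
  rwa [ZMod.orderOf_five] at this

/-- A Suzuki torus order `q ± r + 1` is a power of five only for `m ≤ 2`. -/
theorem torus_five {m k : ℕ} (hm : 1 ≤ m)
    (h : 5 ^ k = 2 ^ (2 * m + 1) + 2 ^ (m + 1) + 1 ∨ 5 ^ k = 2 ^ (2 * m + 1) - 2 ^ (m + 1) + 1) :
    m ≤ 2 := by
  by_contra hm2
  have hdvd : 2 ^ (m + 1) ∣ 5 ^ k - 1 := by
    have h1 : 2 ^ (m + 1) ∣ 2 ^ (2 * m + 1) := Nat.pow_dvd_pow 2 (by omega)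
    rcases h with h | h <;> rw [h, Nat.add_sub_cancel]
    · exact Nat.dvd_add h1 dvd_rfl
    · exact Nat.dvd_sub h1 dvd_rfl
  have hk := five_pow_bound (by omega) hdvd
  have hk0 : 0 < k := by
    by_contra h0
    obtain rfl : k = 0 := by omega
    have : 2 ^ (m + 1) < 2 ^ (2 * m + 1) := Nat.pow_lt_pow_right (by norm_num) (by omega)
    have h2 : 0 < 2 ^ (m + 1) := by positivity
    omega
  have hle := Nat.le_of_dvd hk0 hk
  have hkey : 2 * m + 2 ≤ 2 * 2 ^ (m - 1) := by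
    obtain ⟨n, rfl⟩ : ∃ n, m = n + 3 := ⟨m - 3, by omega⟩
    clear * -
    induction n with
    | zero => norm_num
    | succ j ih =>
      rw [show j + 1 + 3 - 1 = (j + 3 - 1) + 1 by omega, pow_succ]
      omega
  have hbig : 2 ^ (2 * m + 2) ≤ 5 ^ k := by
    calc 2 ^ (2 * m + 2) ≤ 2 ^ (2 * 2 ^ (m - 1)) := Nat.pow_le_pow_right (by norm_num) hkey
      _ = 4 ^ 2 ^ (m - 1) := by rw [pow_mul]; norm_num
      _ ≤ 4 ^ k := Nat.pow_le_pow_right (by norm_num) hle
      _ ≤ 5 ^ k := Nat.pow_le_pow_left (by norm_num) k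
  have hlt : 2 ^ (m + 1) + 1 < 2 ^ (2 * m + 1) := by
    have : 2 ^ (m + 2) ≤ 2 ^ (2 * m + 1) := Nat.pow_le_pow_right (by norm_num) (by omega)
    have h2 : 2 ≤ 2 ^ (m + 1) := Nat.le_self_pow (by omega) 2
    rw [pow_succ] at this
    omega
  rw [pow_succ] at hbig
  omega

/-- The fields of `PSL₂` with all tori of prime power order: characteristic two. -/
theorem two_pow_case {n : ℕ} (hn : 2 ≤ n) (h1 : OnePP (2 ^ n - 1)) (h2 : OnePP (2 ^ n + 1)) :
    n = 2 ∨ n = 3 := by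
  have h3 := pow_two_mod_three n
  have h1le : 1 ≤ 2 ^ n := Nat.one_le_two_pow
  by_cases he : Even n <;> simp [he] at h3
  · obtain ⟨k, hk⟩ := eq_pow_of_dvd Nat.prime_three h1 (by omega)
    have := pred_two_pow hk
    omega
  · obtain ⟨k, hk⟩ := eq_pow_of_dvd Nat.prime_three h2 (by omega)
    rcases succ_two_pow hk with h | h <;> omega

/-- The fields of `PSL₂` with all tori of prime power order: odd primes `2^k ± 1`. -/
theorem prime_case {p k : ℕ} (hp : p.Prime) (hp3 : 5 ≤ p) (hk : p = 2 ^ k + 1 ∨ p + 1 = 2 ^ k)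
    (h1 : OnePP ((p - 1) / 2)) (h2 : OnePP ((p + 1) / 2)) : p = 5 ∨ p = 7 ∨ p = 17 := by
  obtain ⟨j, rfl⟩ : ∃ j, k = j + 1 := ⟨k - 1, by
    rcases k with _ | k
    · simp at hk; omega
    · rfl⟩
  have h3 := pow_two_mod_three j
  have hpd : ¬ 3 ∣ p := fun h => by
    have := (Nat.prime_dvd_prime_iff_eq Nat.prime_three hp).1 h
    omega
  rw [pow_succ] at hk
  have h1le : 1 ≤ 2 ^ j := Nat.one_le_two_pow
  rcases hk with hk | hk
  · by_cases he : Even j <;> simp [he] at h3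
    · exfalso; omega
    · rw [show (p + 1) / 2 = 2 ^ j + 1 by omega] at h2
      obtain ⟨i, hi⟩ := eq_pow_of_dvd Nat.prime_three h2 (by omega)
      rcases succ_two_pow hi with h | h
      · interval_cases j <;> norm_num at hk <;> omega
      · subst h; norm_num at hk; omega
  · by_cases he : Even j <;> simp [he] at h3
    · rw [show (p - 1) / 2 = 2 ^ j - 1 by omega] at h1
      obtain ⟨i, hi⟩ := eq_pow_of_dvd Nat.prime_three h1 (by omega)
      have := pred_two_pow hi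
      interval_cases j <;> norm_num at hk <;> omega
    · exfalso; omega

end CfsgLib.Recog.EPPOSimple
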