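import Cfsg.Agent.Lib.Recog.EPPOSimple.Orders
import Cfsg.Agent.Lib.Invol.L34Parabolic
import Cfsg.Agent.Lib.Coprime.Abelian
import Cfsg.Agent.S3992

/-!
Higman: a group whose elements all have prime power order has at most four prime divisors.
-/

set_option autoImplicit false
set_option linter.unusedSectionVars false
set_option linter.style.haveILetI false

universe u

namespace CfsgLib.Recog.EPPOSimple

open CfsgLib.StructC CfsgLib.StructC.PrimePowerOrders
open scoped MatrixGroups

variable {G : Type u} [Group G] [Finite G]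

/-- In a cyclic group a subgroup is determined by its order. -/
theorem eq_of_card_isCyclic {C : Type*} [Group C] [Finite C] [IsCyclic C] {H K : Subgroup C}
    (h : Nat.card H = Nat.card K) : H = K := by
  let _ : CommGroup C := IsCyclic.commGroup
  have key : ∀ L : Subgroup C, L = (powMonoidHom (Nat.card L) : C →* C).ker := by
    intro L
    refine Subgroup.eq_of_le_of_card_ge (fun x hx => ?_) ?_
    · exact congrArg Subtype.val (pow_card_eq_one' (x := (⟨x, hx⟩ : L)))
    · rw [IsCyclic.card_powMonoidHom_ker, Nat.gcd_eq_right (Subgroup.card_subgroup_dvd_card L)]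
  rw [key H, key K, h]

theorem exists_radical (G : Type u) [Group G] [Finite G] :
    ∃ R : Subgroup G, R.Normal ∧ Group.IsSolvable R ∧
      ∀ N : Subgroup G, N.Normal → Group.IsSolvable N → N ≤ R := by
  obtain ⟨R, ⟨hRn, hRs⟩, hmax⟩ := (Set.toFinite {K : Subgroup G | K.Normal ∧ Group.IsSolvable K}).exists_maximal
    ⟨⊥, inferInstance, inferInstance⟩
  refine ⟨R, hRn, hRs, fun N hN hNs => ?_⟩
  haveI := hN
  haveI := hRn
  haveI := hRs
  haveI := hNs
  have hs : Group.IsSolvable ↥(N ⊔ R) := by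
    haveI : Group.IsSolvable ↥(N.map (QuotientGroup.mk' R)) :=
      Group.isSolvable_of_surjective (f := (QuotientGroup.mk' R).subgroupMap N) (MonoidHom.subgroupMap_surjective _ _)
    refine Group.isSolvable_of_ker_le_range (Subgroup.inclusion (le_sup_right : R ≤ N ⊔ R))
      (((QuotientGroup.mk' R).comp (N ⊔ R).subtype).codRestrict (N.map (QuotientGroup.mk' R)) ?_) ?_
    · rintro ⟨x, hx⟩
      obtain ⟨a, ha, b, hb, rfl⟩ := Subgroup.mem_sup_of_normal_right.1 hx
      refine ⟨a, ha, ?_⟩
      show QuotientGroup.mk' R a = QuotientGroup.mk' R (a * b)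
      rw [map_mul, QuotientGroup.mk'_apply R b, (QuotientGroup.eq_one_iff b).2 hb, mul_one]
    · intro x hx
      refine ⟨⟨(x : G), ?_⟩, rfl⟩
      exact (QuotientGroup.eq_one_iff (x : G)).1 (congrArg Subtype.val (MonoidHom.mem_ker.1 hx))
  exact le_sup_left.trans (hmax ⟨inferInstance, hs⟩ le_sup_right)

theorem radical_two (h : PP G) {R : Subgroup G} [R.Normal] (hRs : Group.IsSolvable R)
    (hRmax : ∀ N : Subgroup G, N.Normal → Group.IsSolvable N → N ≤ R)
    (heven : 2 ∣ R.index) {p : ℕ} (hp : p.Prime) (hR : IsPGroup p R) : IsPGroup 2 R := by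
  classical
  by_cases hp2 : p = 2
  · exact hp2 ▸ hR
  by_cases hR1 : R = ⊥
  · exact hR1 ▸ IsPGroup.of_bot
  exfalso
  haveI := Fact.mk hp
  haveI := Fact.mk Nat.prime_two
  obtain ⟨x, hx⟩ := exists_prime_orderOf_dvd_card' (G := G) 2 (heven.trans (Subgroup.index_dvd_card R))
  have hx1 : x ≠ 1 := fun e => by simp [e] at hx
  have hxR : x ∉ R := by
    intro hxR
    obtain ⟨j, hj⟩ := IsPGroup.iff_orderOf.1 hR ⟨x, hxR⟩
    rw [Subgroup.orderOf_mk, hx] at hj
    exact hp2 (((Nat.prime_dvd_prime_iff_eq Nat.prime_two hp).1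
      (Nat.prime_two.dvd_of_dvd_pow (dvd_of_eq hj))).symm)
  have hinv : ∀ t : G, orderOf t = 2 → ∀ r ∈ R, t * r * t⁻¹ = r⁻¹ := by
    intro t ht r hr
    have ht1 : t ≠ 1 := fun e => by simp [e] at ht
    have htt : t * t = 1 := by rw [← pow_two, ← ht, pow_orderOf_eq_one]
    let φ : R →* R :=
      { toFun := fun v => ⟨t * v * t⁻¹, Subgroup.Normal.conj_mem inferInstance _ v.2 t⟩
        map_one' := Subtype.ext (by simp)
        map_mul' := fun a b => Subtype.ext (by simp [mul_assoc]) }
    have hfpf : MonoidHom.FixedPointFree φ := fun v hv => Subtype.ext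
      (fpf h hp hR Nat.prime_two (fun e => hp2 e.symm) (x := t) (ht.trans (pow_one 2).symm) ht1 v.2
        (show t * (v : G) = v * t by
          have := congrArg Subtype.val hv
          exact mul_inv_eq_iff_eq_mul.1 this))
    have hinv2 : Function.Involutive φ := fun v => Subtype.ext (by
      show t * (t * (v : G) * t⁻¹) * t⁻¹ = v
      rw [show t⁻¹ = t from inv_eq_of_mul_eq_one_right htt]
      calc t * (t * (v : G) * t) * t = (t * t) * v * (t * t) := by group
        _ = v := by rw [htt, one_mul, mul_one])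
    have := congrFun (MonoidHom.FixedPointFree.coe_eq_inv_of_involutive hfpf hinv2) ⟨r, hr⟩
    exact congrArg Subtype.val this
  have hC : Subgroup.centralizer (R : Set G) ≤ R := by
    refine hRmax _ inferInstance ?_
    obtain ⟨⟨r, hr⟩, hr1⟩ := Subgroup.ne_bot_iff_exists_ne_one.1 hR1
    obtain ⟨j, hj⟩ := IsPGroup.iff_orderOf.1 hR ⟨r, hr⟩
    rw [Subgroup.orderOf_mk] at hj
    have hCp : IsPGroup p (Subgroup.centralizer (R : Set G)) := by
      rw [IsPGroup.iff_orderOf]
      intro c
      rw [← Subgroup.orderOf_coe]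
      by_cases hc1 : (c : G) = 1
      · exact ⟨0, by rw [hc1, orderOf_one, pow_zero]⟩
      obtain ⟨s, i, hs, -, hi⟩ := h _ hc1
      refine ⟨i, ?_⟩
      by_cases hsp : s = p
      · rw [← hi, hsp]
      exfalso
      exact false_of_commute h (Nat.prime_iff.2 hs) hp hsp hi.symm hj hc1
        (fun e => hr1 (Subtype.ext e)) (Subgroup.mem_centralizer_iff.1 c.2 r hr).symm
    haveI := hCp.isNilpotent
    infer_instance
  have hcx : ∀ g : G, g * x * g⁻¹ * x⁻¹ ∈ R := by
    intro g
    refine hC (Subgroup.mem_centralizer_iff.2 fun r hr => ?_)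
    have hg : orderOf (g * x * g⁻¹) = 2 := by
      rw [← hx]; exact (MulAut.conj g).orderOf_eq x
    have e1 : x⁻¹ * r * x = r⁻¹ := by
      have hxi : x⁻¹ = x := inv_eq_of_mul_eq_one_right (by rw [← pow_two, ← hx, pow_orderOf_eq_one])
      have := hinv x hx r hr
      rw [hxi] at this ⊢
      exact this
    have e2 := hinv _ hg r⁻¹ (inv_mem hr)
    rw [inv_inv] at e2
    have : g * x * g⁻¹ * x⁻¹ * r * (g * x * g⁻¹ * x⁻¹)⁻¹ = r := by
      calc g * x * g⁻¹ * x⁻¹ * r * (g * x * g⁻¹ * x⁻¹)⁻¹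
          = g * x * g⁻¹ * (x⁻¹ * r * x) * (g * x * g⁻¹)⁻¹ := by group
        _ = r := by rw [e1, e2]
    exact (mul_inv_eq_iff_eq_mul.1 this).symm
  have hK : ((Subgroup.zpowers (QuotientGroup.mk' R x)).comap (QuotientGroup.mk' R)) ≤ R := by
    refine hRmax _ (Subgroup.Normal.comap ⟨fun y hy c => ?_⟩ _) ?_
    · obtain ⟨g, rfl⟩ := QuotientGroup.mk'_surjective R c
      obtain ⟨k, rfl⟩ := Subgroup.mem_zpowers_iff.1 hy
      have hc : Commute (QuotientGroup.mk' R g) (QuotientGroup.mk' R x) := by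
        show QuotientGroup.mk' R g * QuotientGroup.mk' R x = QuotientGroup.mk' R x * QuotientGroup.mk' R g
        rw [← mul_inv_eq_iff_eq_mul, ← map_inv, ← map_mul, ← map_mul, ← mul_inv_eq_one, ← map_inv,
          ← map_mul]
        exact (QuotientGroup.eq_one_iff _).2 (hcx g)
      rw [(hc.zpow_right k).eq, mul_inv_cancel_right]
      exact Subgroup.zpow_mem _ (Subgroup.mem_zpowers _) k
    · haveI : Group.IsSolvable ↥(Subgroup.zpowers (QuotientGroup.mk' R x)) :=
        Group.isSolvable_of_comm fun a b => CfsgLib.Solvable.comm_of_isCyclic a b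
      haveI := hRs
      refine Group.isSolvable_of_ker_le_range
        (Subgroup.inclusion (show R ≤ _ from (QuotientGroup.ker_mk' R).ge.trans (MonoidHom.ker_le_comap _ _)))
        ((QuotientGroup.mk' R).subgroupComap (Subgroup.zpowers (QuotientGroup.mk' R x))) fun y hy => ?_
      refine ⟨⟨(y : G), ?_⟩, rfl⟩
      exact (QuotientGroup.eq_one_iff (y : G)).1 (congrArg Subtype.val (MonoidHom.mem_ker.1 hy))
  exact hxR (hK (Subgroup.mem_zpowers _))

section Three

open Matrix

variable {F : Type*} [Field F] [Fintype F]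

/-- Two independent commuting elements of order three in `PSL(3, 4)`. -/
theorem exists_three_pair (hF : Fintype.card F = 4) :
    ∃ a b : Matrix.ProjectiveSpecialLinearGroup (Fin 3) F,
      orderOf a = 3 ∧ orderOf b = 3 ∧ a * b = b * a ∧ b ∉ Subgroup.zpowers a := by
  obtain ⟨-, w, hw0, hw1, -⟩ := CfsgLib.Trans3.L34.f4_facts hF
  have h3 : w ^ 3 = 1 := CfsgLib.KnownC.pow_three_of_card_four hF hw0
  let A : SL(3, F) := ⟨!![1, 0, 0; 0, w, 0; 0, 0, w ^ 2], by
    simp [Matrix.det_fin_three]; linear_combination h3⟩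
  let B : SL(3, F) := ⟨!![0, 1, 0; 0, 0, 1; 1, 0, 0], by simp [Matrix.det_fin_three]⟩
  have hA3 : A * A * A = 1 := Subtype.ext (by
    show (!![1, 0, 0; 0, w, 0; 0, 0, w ^ 2] : Matrix (Fin 3) (Fin 3) F) *
      !![1, 0, 0; 0, w, 0; 0, 0, w ^ 2] * !![1, 0, 0; 0, w, 0; 0, 0, w ^ 2] = 1
    ext i j
    fin_cases i <;> fin_cases j <;> simp [Matrix.mul_apply, Fin.sum_univ_three] <;> grind)
  have hB3 : B * B * B = 1 := Subtype.ext (by
    show (!![0, 1, 0; 0, 0, 1; 1, 0, 0] : Matrix (Fin 3) (Fin 3) F) *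
      !![0, 1, 0; 0, 0, 1; 1, 0, 0] * !![0, 1, 0; 0, 0, 1; 1, 0, 0] = 1
    ext i j
    fin_cases i <;> fin_cases j <;> simp [Matrix.mul_apply, Fin.sum_univ_three])
  have hne : ∀ {g : SL(3, F)} (i j : Fin 3), i ≠ j → (g : Matrix (Fin 3) (Fin 3) F) i j ≠ 0 →
      (QuotientGroup.mk g : Matrix.ProjectiveSpecialLinearGroup (Fin 3) F) ∉
        Subgroup.zpowers (QuotientGroup.mk A) := by
    intro g i j hij hg hmem
    obtain ⟨k, hk⟩ := Subgroup.mem_zpowers_iff.1 hmem
    rw [← QuotientGroup.mk_zpow] at hk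
    obtain ⟨r, e⟩ := CfsgLib.Invol.L34Parabolic.exists_smul_of_mk_eq hk
    let D : Subgroup SL(3, F) :=
      { carrier := {g | ∀ i j : Fin 3, i ≠ j → (g : Matrix (Fin 3) (Fin 3) F) i j = 0}
        one_mem' := fun i j hij => Matrix.one_apply_ne hij
        mul_mem' := fun {a b} ha hb i j hij => by
          rw [Matrix.SpecialLinearGroup.coe_mul, Matrix.mul_apply]
          refine Finset.sum_eq_zero fun l _ => ?_
          by_cases hil : i = l
          · subst hil; rw [hb _ _ hij, mul_zero]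
          · rw [ha _ _ hil, zero_mul]
        inv_mem' := fun {a} ha i j hij => by
          have hd : (a : Matrix (Fin 3) (Fin 3) F) = Matrix.diagonal fun l => (a : Matrix (Fin 3) (Fin 3) F) l l := by
            ext p q
            by_cases hpq : p = q
            · subst hpq; rw [Matrix.diagonal_apply_eq]
            · rw [Matrix.diagonal_apply_ne _ hpq, ha _ _ hpq]
          rw [Matrix.SpecialLinearGroup.coe_inv, hd, Matrix.adjugate_diagonal,
            Matrix.diagonal_apply_ne _ hij] }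
    have hAD : A ∈ D := fun i j hij => by
      fin_cases i <;> fin_cases j <;> simp [A] at hij ⊢
    have := D.zpow_mem hAD k i j hij
    rw [e, Matrix.smul_apply, this, smul_zero] at hg
    exact hg rfl
  refine ⟨QuotientGroup.mk A, QuotientGroup.mk B, ?_, ?_, ?_, hne 0 1 (by decide) (by simp [B])⟩
  · refine orderOf_eq_prime ?_ fun e => ?_
    · rw [← QuotientGroup.mk_pow, pow_three, ← mul_assoc, hA3, QuotientGroup.mk_one]
    · have e2 : (QuotientGroup.mk A : Matrix.ProjectiveSpecialLinearGroup (Fin 3) F) =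
          QuotientGroup.mk (1 : SL(3, F)) := e.trans (QuotientGroup.mk_one _).symm
      obtain ⟨r, e'⟩ := CfsgLib.Invol.L34Parabolic.exists_smul_of_mk_eq e2
      have e00 := congrFun (congrFun e' 0) 0
      have e11 := congrFun (congrFun e' 1) 1
      simp [A, Matrix.SpecialLinearGroup.coe_one] at e00 e11
      rw [← e00, one_mul] at e11
      exact hw1 e11.symm
  · refine orderOf_eq_prime ?_ fun e => hne 0 1 (by decide) (g := B) (by simp [B]) ?_
    · rw [← QuotientGroup.mk_pow, pow_three, ← mul_assoc, hB3, QuotientGroup.mk_one]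
    · rw [e]; exact one_mem _
  · rw [← QuotientGroup.mk_mul, ← QuotientGroup.mk_mul]
    refine CfsgLib.Invol.L34Parabolic.mk_eq_of_smul (r := w) h3 ?_
    rw [Matrix.SpecialLinearGroup.coe_mul, Matrix.SpecialLinearGroup.coe_mul]
    ext i j
    fin_cases i <;> fin_cases j <;> simp [A, B, Matrix.mul_apply, Fin.sum_univ_three] <;> grind

end Three

/-- The prime divisors. -/
theorem higman (h : ∀ g : G, g ≠ 1 → IsPrimePow (orderOf g))
    (hcl : ∀ (H : Type u) [Group H] [Finite H] [IsSimpleGroup H], ¬ IsMulCommutative H → PP H → EPPOList H) :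
    (Nat.card G).primeFactors.card ≤ 4 ∧
    ((Nat.card G).primeFactors.card = 4 →
      (∃ (F : Type) (_ : Field F) (_ : Fintype F), Fintype.card F = 4 ∧
        Nonempty (G ≃* Matrix.ProjectiveSpecialLinearGroup (Fin 3) F)) ∨
      (∃ (N : Subgroup G) (_ : N.Normal), IsPGroup 2 ↥N ∧
        ∃ (F : Type) (_ : Field F) (_ : Fintype F),
          (Fintype.card F = 8 ∧ Nonempty (G ⧸ N ≃* ↥(Cfsg.Lie.Sz F 4))) ∨
          (Fintype.card F = 32 ∧ Nonempty (G ⧸ N ≃* ↥(Cfsg.Lie.Sz F 8))))) := by
  classical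
  by_cases hs : Group.IsSolvable G
  · haveI := hs
    have h2 := primeFactors_le_two h
    exact ⟨by omega, fun h4 => by omega⟩
  obtain ⟨R, hRn, hRs, hRmax⟩ := exists_radical G
  haveI := hRn
  obtain ⟨⟨p, hp, hRp⟩, ⟨M, hMn, hMs, hMna, -⟩, -⟩ := Cfsg.Agent.S3992.result hs h R hRs hRmax
  haveI := hMn
  haveI := hMs
  have hX : PP (G ⧸ R) := pp_quotient h R
  have hsh := shape_of_list (hcl M hMna (pp_subgroup hX M))
  have hMdvd : Nat.card M ∣ R.index := by
    rw [Subgroup.index_eq_card]; exact Subgroup.card_subgroup_dvd_card M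
  have h2M : 2 ∣ Nat.card M := by
    rcases hsh with h5 | ⟨e, -⟩ | ⟨e, -⟩ | ⟨e, -⟩
    · simp only [Finset.mem_insert, Finset.mem_singleton] at h5
      omega
    all_goals omega
  have hR2 : IsPGroup 2 R := radical_two h hRs hRmax (h2M.trans hMdvd) hp hRp
  have hMidx : ∀ r : ℕ, r.Prime → r ∣ M.index → r ∣ Nat.card M := by
    intro r hr hd
    rcases hsh with h5 | ⟨e, -⟩ | ⟨e, -⟩ | ⟨e, -⟩
    · exact prime_index_three hX M h5 hr hd
    all_goals
      rw [index_eq_one hX M (by omega)] at hd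
      exact absurd (Nat.dvd_one.1 hd) hr.ne_one
  have hpf : (Nat.card G).primeFactors = (Nat.card M).primeFactors := by
    obtain ⟨j, hj⟩ := IsPGroup.iff_card.1 hR2
    ext r
    simp only [Nat.mem_primeFactors, ne_eq, Nat.card_pos.ne', not_false_iff, and_true]
    constructor
    · rintro ⟨hr, hd⟩
      refine ⟨hr, ?_⟩
      rw [← Subgroup.card_mul_index R, hj, Subgroup.index_eq_card, ← Subgroup.card_mul_index M] at hd
      rcases hr.dvd_mul.1 hd with hd | hd
      · rw [(Nat.prime_dvd_prime_iff_eq hr Nat.prime_two).1 (hr.dvd_of_dvd_pow hd)]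
        exact h2M
      · rcases hr.dvd_mul.1 hd with hd | hd
        · exact hd
        · exact hMidx r hr hd
    · rintro ⟨hr, hd⟩
      exact ⟨hr, hd.trans (hMdvd.trans (Subgroup.index_dvd_card R))⟩
  rw [hpf]
  have pf : ∀ (s : Finset ℕ) (N : ℕ), N ≠ 0 → (∀ r ∈ s, r.Prime ∧ r ∣ N) →
      (∀ r, r.Prime → r ∣ N → r ∈ s) → N.primeFactors = s := by
    intro s N hN h1 h2
    ext r
    rw [Nat.mem_primeFactors]
    exact ⟨fun hh => h2 r hh.1 hh.2.1, fun hr => ⟨(h1 r hr).1, (h1 r hr).2, hN⟩⟩
  have three : ∀ a b c : ℕ, a.Prime → b.Prime → c.Prime → ∀ i j k : ℕ,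
      (a ^ i * b ^ j * c ^ k).primeFactors.card ≤ 3 := by
    intro a b c ha hb hc i j k
    refine (Finset.card_le_card (t := {a, b, c}) fun r hr => ?_).trans Finset.card_le_three
    obtain ⟨hr, hd, -⟩ := Nat.mem_primeFactors.1 hr
    simp only [Finset.mem_insert, Finset.mem_singleton]
    rcases hr.dvd_mul.1 hd with hd | hd
    · rcases hr.dvd_mul.1 hd with hd | hd
      · exact Or.inl ((Nat.prime_dvd_prime_iff_eq hr ha).1 (hr.dvd_of_dvd_pow hd))
      · exact Or.inr (Or.inl ((Nat.prime_dvd_prime_iff_eq hr hb).1 (hr.dvd_of_dvd_pow hd)))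
    · exact Or.inr (Or.inr ((Nat.prime_dvd_prime_iff_eq hr hc).1 (hr.dvd_of_dvd_pow hd)))
  have four : ∀ a b c d : ℕ, a.Prime → b.Prime → c.Prime → d.Prime → ∀ i j k l : ℕ,
      (a ^ i * b ^ j * c ^ k * d ^ l).primeFactors.card ≤ 4 := by
    intro a b c d ha hb hc hd i j k l
    refine (Finset.card_le_card (t := insert d {a, b, c}) fun r hr => ?_).trans
      ((Finset.card_insert_le _ _).trans (Nat.succ_le_succ Finset.card_le_three))
    obtain ⟨hr, hdd, -⟩ := Nat.mem_primeFactors.1 hr
    simp only [Finset.mem_insert, Finset.mem_singleton]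
    rcases hr.dvd_mul.1 hdd with hdd | hdd
    · rcases hr.dvd_mul.1 hdd with hdd | hdd
      · rcases hr.dvd_mul.1 hdd with hdd | hdd
        · exact Or.inr (Or.inl ((Nat.prime_dvd_prime_iff_eq hr ha).1 (hr.dvd_of_dvd_pow hdd)))
        · exact Or.inr (Or.inr (Or.inl ((Nat.prime_dvd_prime_iff_eq hr hb).1 (hr.dvd_of_dvd_pow hdd))))
      · exact Or.inr (Or.inr (Or.inr ((Nat.prime_dvd_prime_iff_eq hr hc).1 (hr.dvd_of_dvd_pow hdd))))
    · exact Or.inl ((Nat.prime_dvd_prime_iff_eq hr hd).1 (hr.dvd_of_dvd_pow hdd))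
  rcases hsh with h5 | ⟨e, F, _, _, hF, ⟨iso⟩⟩ | ⟨e, hSz⟩ | ⟨e, hSz⟩
  · simp only [Finset.mem_insert, Finset.mem_singleton] at h5
    have : (Nat.card M).primeFactors.card ≤ 3 := by
      rcases h5 with e | e | e | e | e <;> rw [e]
      · exact three 2 3 5 (by norm_num) (by norm_num) (by norm_num) 2 1 1
      · exact three 2 3 7 (by norm_num) (by norm_num) (by norm_num) 3 1 1
      · exact three 2 3 5 (by norm_num) (by norm_num) (by norm_num) 3 2 1
      · exact three 2 3 7 (by norm_num) (by norm_num) (by norm_num) 3 2 1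
      · exact three 2 3 17 (by norm_num) (by norm_num) (by norm_num) 4 2 1
    exact ⟨by omega, fun h4 => by omega⟩
  · refine ⟨by rw [e]; exact four 2 3 5 7 (by norm_num) (by norm_num) (by norm_num) (by norm_num) 6 2 1 1,
      fun _ => Or.inl ⟨F, inferInstance, inferInstance, hF, ?_⟩⟩
    have hMtop : M = ⊤ := Subgroup.index_eq_one.1 (index_eq_one hX M (Or.inl e))
    have iX : G ⧸ R ≃* Matrix.ProjectiveSpecialLinearGroup (Fin 3) F :=
      (Subgroup.topEquiv.symm.trans (MulEquiv.subgroupCongr hMtop.symm)).trans iso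
    suffices hR1 : R = ⊥ by
      exact ⟨(QuotientGroup.quotientBot.symm.trans (QuotientGroup.quotientMulEquivOfEq hR1.symm)).trans iX⟩
    by_contra hR1
    haveI := Fact.mk Nat.prime_three
    haveI := Fact.mk Nat.prime_two
    obtain ⟨j, hj⟩ := IsPGroup.iff_card.1 hR2
    obtain ⟨T⟩ : Nonempty (Sylow 3 G) := inferInstance
    obtain ⟨S, hS⟩ : ∃ S : Sylow 3 (Matrix.ProjectiveSpecialLinearGroup (Fin 3) F),
        (S : Subgroup _) = (T : Subgroup G).map (iX.toMonoidHom.comp (QuotientGroup.mk' R)) :=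
      ⟨T.mapSurjective (f := iX.toMonoidHom.comp (QuotientGroup.mk' R))
        (iX.surjective.comp (QuotientGroup.mk'_surjective R)), rfl⟩
    obtain ⟨a, b, ha, hb, hab, hnb⟩ := exists_three_pair hF
    haveI hAcomm : IsMulCommutative ↥(Subgroup.closure ({a, b} : Set _)) := by
      refine Subgroup.isMulCommutative_closure fun x hx y hy => ?_
      rcases hx with rfl | rfl <;> rcases hy with rfl | rfl
      exacts [rfl, hab, hab.symm, rfl]
    have hAp : IsPGroup 3 ↥(Subgroup.closure ({a, b} : Set _)) := by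
      intro x
      refine ⟨1, Subtype.ext ?_⟩
      rw [pow_one, SubmonoidClass.coe_pow, Subgroup.coe_one]
      have hcc : ∀ u ∈ Subgroup.closure ({a, b} : Set _), ∀ v ∈ Subgroup.closure ({a, b} : Set _),
          u * v = v * u := fun u hu v hv => congrArg Subtype.val (hAcomm.is_comm.comm ⟨u, hu⟩ ⟨v, hv⟩)
      obtain ⟨x, hx⟩ := x
      show x ^ 3 = 1
      induction hx using Subgroup.closure_induction with
      | mem y hy =>
        rcases hy with rfl | rfl
        · have := pow_orderOf_eq_one y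
          rwa [ha] at this
        · have := pow_orderOf_eq_one y
          rwa [hb] at this
      | one => exact one_pow 3
      | mul u v hu hv iu iv => rw [Commute.mul_pow (hcc u hu v hv), iu, iv, one_mul]
      | inv u hu iu => rw [inv_pow, iu, inv_one]
    obtain ⟨S', hS'⟩ := hAp.exists_le_sylow
    have hcyc : ¬ IsCyclic (T : Subgroup G) := by
      intro hc
      haveI := hc
      haveI : IsCyclic (S : Subgroup (Matrix.ProjectiveSpecialLinearGroup (Fin 3) F)) := by
        rw [hS]
        exact isCyclic_of_surjective ((iX.toMonoidHom.comp (QuotientGroup.mk' R)).subgroupMap (T : Subgroup G))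
          (MonoidHom.subgroupMap_surjective _ _)
      obtain ⟨g, hg⟩ := MulAction.exists_smul_eq (Matrix.ProjectiveSpecialLinearGroup (Fin 3) F) S S'
      haveI : IsCyclic (S' : Subgroup (Matrix.ProjectiveSpecialLinearGroup (Fin 3) F)) :=
        isCyclic_of_surjective (Sylow.equiv S S') (Sylow.equiv S S').surjective
      refine hnb ?_
      have haS := hS' (Subgroup.subset_closure (show a ∈ ({a, b} : Set _) by simp))
      have hbS := hS' (Subgroup.subset_closure (show b ∈ ({a, b} : Set _) by simp))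
      have hle : Subgroup.zpowers a ≤ (S' : Subgroup _) := Subgroup.zpowers_le.2 haS
      have hle' : Subgroup.zpowers b ≤ (S' : Subgroup _) := Subgroup.zpowers_le.2 hbS
      have heq : (Subgroup.zpowers a).subgroupOf (S' : Subgroup _) = (Subgroup.zpowers b).subgroupOf (S' : Subgroup _) := by
        refine eq_of_card_isCyclic ?_
        rw [Nat.card_congr (Subgroup.subgroupOfEquivOfLe hle).toEquiv,
          Nat.card_congr (Subgroup.subgroupOfEquivOfLe hle').toEquiv, Nat.card_zpowers, Nat.card_zpowers, ha, hb]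
      have : (⟨b, hbS⟩ : (S' : Subgroup _)) ∈ (Subgroup.zpowers a).subgroupOf (S' : Subgroup _) := by
        rw [heq]; exact Subgroup.mem_subgroupOf.2 (Subgroup.mem_zpowers b)
      exact Subgroup.mem_subgroupOf.1 this
    haveI : IsMulCommutative (T : Subgroup G) := by
      have hTc : Nat.card (T : Subgroup G) = 3 ^ 2 := by
        rw [T.card_eq_multiplicity]
        congr 1
        rw [← Subgroup.card_mul_index R, hj, Subgroup.index_eq_card, Nat.card_congr iX.toEquiv,
          CfsgLib.Recog.LThreeFour.card_psl_three_four hF]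
        rw [Nat.factorization_mul (by positivity) (by norm_num), Finsupp.add_apply,
          Nat.factorization_eq_zero_of_not_dvd (n := 2 ^ j) (fun hd => absurd
            (Nat.prime_three.dvd_of_dvd_pow hd) (by norm_num)), zero_add,
          show (20160 : ℕ) = 3 ^ 2 * 2240 by norm_num,
          Nat.factorization_mul (by norm_num) (by norm_num), Finsupp.add_apply,
          Nat.prime_three.factorization_pow, Finsupp.single_eq_same,
          Nat.factorization_eq_zero_of_not_dvd (n := 2240) (by norm_num)]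
      exact IsPGroup.isMulCommutative_of_card_eq_prime_sq hTc
    obtain ⟨V, hV⟩ : ∃ V, V = (Subgroup.center R).map R.subtype := ⟨_, rfl⟩
    haveI hVn : V.Normal := hV ▸ inferInstance
    have hVR : V ≤ R := hV ▸ Subgroup.map_subtype_le _
    haveI : Nontrivial R := (Subgroup.nontrivial_iff_ne_bot R).2 hR1
    haveI := hR2.center_nontrivial
    haveI : Nontrivial V := by
      rw [Subgroup.nontrivial_iff_ne_bot, hV, ne_eq,
        Subgroup.map_eq_bot_iff_of_injective _ R.subtype_injective]
      exact (Subgroup.nontrivial_iff_ne_bot _).1 inferInstance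
    have hVc : ∀ u ∈ V, ∀ v ∈ V, u * v = v * u := by
      rw [hV]
      rintro _ ⟨u, hu, rfl⟩ _ ⟨v, -, rfl⟩
      exact congrArg Subtype.val (Subgroup.mem_center_iff.1 hu v).symm
    letI : CommGroup V :=
      { (inferInstance : Group V) with mul_comm := fun x y => Subtype.ext (hVc x x.2 y y.2) }
    have hn : (T : Subgroup G) ≤ Subgroup.normalizer (V : Set G) := Subgroup.normalizer_eq_top V ▸ le_top
    obtain ⟨t, ht1, v, hv1, htv⟩ := CfsgLib.Coprime.exists_ne_one_fixed_of_not_isCyclic
      (CosetPrimePower.cj V (T : Subgroup G) hn) (by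
        obtain ⟨i, hi⟩ := IsPGroup.iff_card.1 T.isPGroup'
        obtain ⟨l, hl⟩ := IsPGroup.iff_card.1 (hR2.to_le hVR)
        rw [hi, hl]
        exact Nat.Coprime.pow i l (by norm_num)) hcyc
    obtain ⟨i, hi⟩ := IsPGroup.iff_orderOf.1 T.isPGroup' t
    rw [← Subgroup.orderOf_coe] at hi
    refine hv1 (Subtype.ext (fpf h Nat.prime_two hR2 Nat.prime_three (by norm_num) hi
      (fun e => ht1 (Subtype.ext e)) (hVR v.2) ?_))
    exact (CosetPrimePower.cj_fixed_iff hn t v).1 htv
  · refine ⟨by rw [e]; exact four 2 5 7 13 (by norm_num) (by norm_num) (by norm_num) (by norm_num) 6 1 1 1,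
      fun _ => Or.inr ⟨R, inferInstance, hR2, ?_⟩⟩
    have hMtop : M = ⊤ := Subgroup.index_eq_one.1 (index_eq_one hX M (Or.inr (Or.inl e)))
    obtain ⟨F, _, _, hF, ⟨iso⟩⟩ := hSz
    exact ⟨F, inferInstance, inferInstance, Or.inl ⟨hF,
      ⟨(Subgroup.topEquiv.symm.trans (MulEquiv.subgroupCongr hMtop.symm)).trans iso⟩⟩⟩
  · refine ⟨by rw [e]; exact four 2 5 31 41 (by norm_num) (by norm_num) (by norm_num) (by norm_num) 10 2 1 1,
      fun _ => Or.inr ⟨R, inferInstance, hR2, ?_⟩⟩
    have hMtop : M = ⊤ := Subgroup.index_eq_one.1 (index_eq_one hX M (Or.inr (Or.inr e)))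
    obtain ⟨F, _, _, hF, ⟨iso⟩⟩ := hSz
    exact ⟨F, inferInstance, inferInstance, Or.inr ⟨hF,
      ⟨(Subgroup.topEquiv.symm.trans (MulEquiv.subgroupCongr hMtop.symm)).trans iso⟩⟩⟩

end CfsgLib.Recog.EPPOSimple
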