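import Cfsg.Agent.Lib.Recog.EPPOSimple.Simple
import Cfsg.Agent.Lib.Recog.EPPOSimple.Almost
import Cfsg.Agent.Lib.Classical.AltSimple

/-!
Orders of the simple groups with all orders prime powers, and the index of such a group as a normal
subgroup of a group with all orders prime powers.
-/

set_option autoImplicit false
set_option linter.unusedSectionVars false
set_option linter.style.haveILetI false

universe u

namespace CfsgLib.Recog.EPPOSimple

open CfsgLib.StructC.PrimePowerOrders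
open scoped MatrixGroups

/-- What is needed about a group on the list. -/
def Shape (M : Type u) [Group M] : Prop :=
  Nat.card M ∈ ({60, 168, 360, 504, 2448} : Finset ℕ) ∨
  (Nat.card M = 20160 ∧ ∃ (F : Type) (_ : Field F) (_ : Fintype F), Fintype.card F = 4 ∧
    Nonempty (M ≃* Matrix.ProjectiveSpecialLinearGroup (Fin 3) F)) ∨
  (Nat.card M = 29120 ∧ ∃ (F : Type) (_ : Field F) (_ : Fintype F),
    Fintype.card F = 8 ∧ Nonempty (M ≃* ↥(Cfsg.Lie.Sz F 4))) ∨
  (Nat.card M = 32537600 ∧ ∃ (F : Type) (_ : Field F) (_ : Fintype F),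
    Fintype.card F = 32 ∧ Nonempty (M ≃* ↥(Cfsg.Lie.Sz F 8)))

theorem card_sz_lie {F : Type} [Field F] [Fintype F] {m : ℕ} (hm : 1 ≤ m)
    (hF : Fintype.card F = 2 ^ (2 * m + 1)) :
    Nat.card ↥(Cfsg.Lie.Sz F (2 ^ (m + 1))) =
      Fintype.card F ^ 2 * (Fintype.card F - 1) * (Fintype.card F ^ 2 + 1) := by
  haveI := Fact.mk Nat.prime_two
  haveI : CharP F 2 := charP_of_card_eq_prime_pow hF
  rw [← Nat.card_congr (CfsgLib.Suzuki.szEquiv hm hF).toEquiv]
  exact CfsgLib.Suzuki.card_sz hm hF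

theorem shape_of_list {M : Type u} [Group M] (h : EPPOList M) : Shape M := by
  rcases h with ⟨⟨e⟩⟩ | ⟨F, _, _, hq, ⟨e⟩⟩ | ⟨F, _, _, hF, ⟨e⟩⟩ | ⟨F, _, _, ⟨hF, ⟨e⟩⟩ | ⟨hF, ⟨e⟩⟩⟩
  · left
    rw [Nat.card_congr e.toEquiv, nat_card_alternatingGroup, Nat.card_fin,
      show Nat.factorial 6 / 2 = 360 from rfl]
    simp
  · left
    simp only [Finset.mem_insert, Finset.mem_singleton] at hq
    rw [Nat.card_congr e.toEquiv]
    rcases hq with hq | hq | hq | hq
    · rw [CfsgLib.Classical.card_psl_two_eq hq 60 (by decide)]; simp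
    · rw [CfsgLib.Classical.card_psl_two_eq hq 168 (by decide)]; simp
    · rw [CfsgLib.Classical.card_psl_two_eq hq 504 (by decide)]; simp
    · rw [CfsgLib.Classical.card_psl_two_eq hq 2448 (by decide)]; simp
  · exact Or.inr (Or.inl ⟨(Nat.card_congr e.toEquiv).trans
      (CfsgLib.Recog.LThreeFour.card_psl_three_four hF), F, inferInstance, inferInstance, hF, ⟨e⟩⟩)
  · refine Or.inr (Or.inr (Or.inl ⟨?_, F, inferInstance, inferInstance, hF, ⟨e⟩⟩))
    rw [Nat.card_congr e.toEquiv]
    have := card_sz_lie (F := F) (m := 1) le_rfl (by rw [hF]; rfl)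
    rw [show (2 : ℕ) ^ (1 + 1) = 4 from rfl] at this
    rw [this, hF]
    norm_num
  · refine Or.inr (Or.inr (Or.inr ⟨?_, F, inferInstance, inferInstance, hF, ⟨e⟩⟩))
    rw [Nat.card_congr e.toEquiv]
    have := card_sz_lie (F := F) (m := 2) (by norm_num) (by rw [hF]; rfl)
    rw [show (2 : ℕ) ^ (2 + 1) = 8 from rfl] at this
    rw [this, hF]
    norm_num

variable {X : Type u} [Group X] [Finite X]

/-- A divisor of the index divides `q (q - 1)` prime by prime. -/
theorem prime_dvd_index (h : PP X) (M : Subgroup X) [M.Normal] {q k : ℕ} [Fact q.Prime]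
    (hM : Nat.card M = q * k) (hk : ¬ q ∣ k) {p : ℕ} (hp : p.Prime) (hd : p ∣ M.index) :
    p = q ∨ p ∣ q - 1 := by
  obtain ⟨b, m, he, hm, -, -⟩ := index_lemma h M hM hk
  have : p ∣ q ^ b * m := he ▸ hd.mul_right _
  rcases hp.dvd_mul.1 this with h' | h'
  · exact Or.inl ((Nat.prime_dvd_prime_iff_eq hp Fact.out).1 (hp.dvd_of_dvd_pow h'))
  · exact Or.inr (h'.trans hm)

theorem prime_index_three (h : PP X) (M : Subgroup X) [M.Normal]
    (hM : Nat.card M ∈ ({60, 168, 360, 504, 2448} : Finset ℕ)) {p : ℕ} (hp : p.Prime)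
    (hd : p ∣ M.index) : p ∣ Nat.card M := by
  simp only [Finset.mem_insert, Finset.mem_singleton] at hM
  have key : ∀ q k N : ℕ, q.Prime → Nat.card M = N → N = q * k → ¬ q ∣ k →
      (∀ r, r ≤ q → r.Prime → (r = q ∨ r ∣ q - 1) → r ∣ N) → p ∣ N := by
    intro q k N hq hN hqk hk hall
    haveI := Fact.mk hq
    have h' := prime_dvd_index h M (hN.trans hqk) hk hp hd
    refine hall p ?_ hp h'
    rcases h' with rfl | h'
    · exact le_rfl
    · exact (Nat.le_of_dvd (by have := hq.two_le; omega) h').trans (Nat.sub_le q 1)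
  rcases hM with e | e | e | e | e <;> rw [e]
  · exact key 5 12 60 (by norm_num) e rfl (by norm_num) (by decide)
  · exact key 7 24 168 (by norm_num) e rfl (by norm_num) (by decide)
  · exact key 5 72 360 (by norm_num) e rfl (by norm_num) (by decide)
  · exact key 7 72 504 (by norm_num) e rfl (by norm_num) (by decide)
  · exact key 17 144 2448 (by norm_num) e rfl (by norm_num) (by decide)

theorem index_eq_one (h : PP X) (M : Subgroup X) [M.Normal]
    (hM : Nat.card M = 20160 ∨ Nat.card M = 29120 ∨ Nat.card M = 32537600) : M.index = 1 := by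
  have key : ∀ q k q' k' n' : ℕ, q.Prime → q'.Prime → Nat.card M = q * k → ¬ q ∣ k →
      Nat.card M = q' * k' → ¬ q' ∣ k' → k' % q' = n' →
      (∀ m, m ∣ q - 1 → OnePP m → k % q ∣ m → m = k % q) → ¬ q ∣ q' * (q' - 1) → 0 < k % q →
      M.index = 1 := by
    intro q k q' k' n' hq hq' h1 h2 h1' h2' _ hm hnd hpos
    haveI := Fact.mk hq
    haveI := Fact.mk hq'
    obtain ⟨b, m, he, hmd, hmpp, hnm⟩ := index_lemma h M h1 h2
    rw [hm m hmd hmpp hnm, ← mul_assoc] at he
    have he' : M.index * q = q ^ b := Nat.eq_of_mul_eq_mul_right hpos he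
    obtain ⟨a, -, ha⟩ := (Nat.dvd_prime_pow hq).1 (Dvd.intro q he')
    by_contra hne
    have ha0 : a ≠ 0 := fun e => hne (by rw [ha, e, pow_zero])
    rcases prime_dvd_index h M h1' h2' hq (ha ▸ dvd_pow_self q ha0) with e | e
    · exact hnd (e ▸ dvd_mul_right _ _)
    · exact hnd (e.mul_left _)
  have cases_dvd : ∀ N n : ℕ, 0 < N → (∀ m ∈ N.divisors, n ∣ m → (m = 1 ∨ IsPrimePow m) → m = n) →
      ∀ m, m ∣ N → OnePP m → n ∣ m → m = n := fun N n hN hall m hm hpp hn =>
    hall m (Nat.mem_divisors.2 ⟨hm, hN.ne'⟩) hn hpp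
  rcases hM with e | e | e
  · refine key 7 2880 5 4032 2 (by norm_num) (by norm_num) e (by norm_num) e (by norm_num) rfl
      (cases_dvd 6 3 (by norm_num) ?_) (by norm_num) (by norm_num)
    rw [show Nat.divisors 6 = {1, 2, 3, 6} by decide]
    simp only [Finset.mem_insert, Finset.mem_singleton]
    rintro m (rfl | rfl | rfl | rfl) hn hpp <;> norm_num at hn <;> try norm_num
    rcases hpp with h' | h'
    · omega
    · obtain ⟨r, j, hr, -, hj⟩ := h'
      have h2 : (2 : ℕ) ∣ r ^ j := hj ▸ by norm_num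
      have h3 : (3 : ℕ) ∣ r ^ j := hj ▸ by norm_num
      have e2 := (Nat.prime_dvd_prime_iff_eq Nat.prime_two (Nat.prime_iff.2 hr)).1 (Nat.prime_two.dvd_of_dvd_pow h2)
      have e3 := (Nat.prime_dvd_prime_iff_eq Nat.prime_three (Nat.prime_iff.2 hr)).1 (Nat.prime_three.dvd_of_dvd_pow h3)
      omega
  · refine key 13 2240 7 4160 2 (by norm_num) (by norm_num) e (by norm_num) e (by norm_num) rfl
      (cases_dvd 12 4 (by norm_num) ?_) (by norm_num) (by norm_num)
    rw [show Nat.divisors 12 = {1, 2, 3, 4, 6, 12} by decide]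
    simp only [Finset.mem_insert, Finset.mem_singleton]
    rintro m (rfl | rfl | rfl | rfl | rfl | rfl) hn hpp <;> norm_num at hn <;> try norm_num
    rcases hpp with h' | h'
    · omega
    · obtain ⟨r, j, hr, -, hj⟩ := h'
      have h2 : (2 : ℕ) ∣ r ^ j := hj ▸ by norm_num
      have h3 : (3 : ℕ) ∣ r ^ j := hj ▸ by norm_num
      have e2 := (Nat.prime_dvd_prime_iff_eq Nat.prime_two (Nat.prime_iff.2 hr)).1 (Nat.prime_two.dvd_of_dvd_pow h2)
      have e3 := (Nat.prime_dvd_prime_iff_eq Nat.prime_three (Nat.prime_iff.2 hr)).1 (Nat.prime_three.dvd_of_dvd_pow h3)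
      omega
  · refine key 31 1049600 41 793600 4 (by norm_num) (by norm_num) e (by norm_num) e (by norm_num) rfl
      (cases_dvd 30 2 (by norm_num) ?_) (by norm_num) (by norm_num)
    rw [show Nat.divisors 30 = {1, 2, 3, 5, 6, 10, 15, 30} by decide]
    simp only [Finset.mem_insert, Finset.mem_singleton]
    rintro m (rfl | rfl | rfl | rfl | rfl | rfl | rfl | rfl) hn hpp <;> norm_num at hn <;> try norm_num
    all_goals
      rcases hpp with h' | h'
      · omega
      · obtain ⟨r, j, hr, -, hj⟩ := h'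
        have h2 : (2 : ℕ) ∣ r ^ j := hj ▸ by norm_num
        have e2 := (Nat.prime_dvd_prime_iff_eq Nat.prime_two (Nat.prime_iff.2 hr)).1 (Nat.prime_two.dvd_of_dvd_pow h2)
        subst e2
        have h4 : j ≤ 5 := by
          by_contra hj5
          have : 2 ^ 6 ≤ 2 ^ j := Nat.pow_le_pow_right (by norm_num) (by omega)
          omega
        interval_cases j <;> norm_num at hj

end CfsgLib.Recog.EPPOSimple
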